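import Groth.Agent.DPow28.Gen
import Mathlib.LinearAlgebra.TensorProduct.Basis
import Mathlib.RingTheory.TensorProduct.Free
import Mathlib.Algebra.MvPolynomial.Basic
import Mathlib.LinearAlgebra.Matrix.ToLin

/-! Free divided power algebras and divided power envelopes. -/

set_option autoImplicit false

universe u

namespace Groth.Agent.DPow28

open TensorProduct

theorem exists_free {A : Type u} [CommRing A] {I : Ideal A} (γ : DividedPowers I) (Λ : Type u) :
    ∃ (D : Type u) (_ : CommRing D) (_ : Algebra A D) (J : Ideal D) (δ : DividedPowers J)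
      (x : Λ → D), (∀ i, x i ∈ J) ∧ γ.IsDPMorphism δ (algebraMap A D) ∧
      ∀ (C : Type u) [CommRing C] [Algebra A C] (K : Ideal C) (ε : DividedPowers K),
        γ.IsDPMorphism ε (algebraMap A C) → ∀ k : Λ → C, (∀ i, k i ∈ K) →
          ∃! φ : D →ₐ[A] C, (∀ i, φ (x i) = k i) ∧ δ.IsDPMorphism ε φ.toRingHom := by
  classical
  obtain ⟨T, _, _, _, xT, bT, hT0, hTmul, hbT⟩ := DPow29.exists_model.{u, u} Λ A
  let σ : MvPolynomial A ℤ →+* A := MvPolynomial.eval₂Hom (Int.castRingHom A) id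
  letI : Algebra (MvPolynomial A ℤ) A := σ.toAlgebra
  let D := A ⊗[MvPolynomial A ℤ] T
  let xD : Λ → ℕ → D := fun l n => 1 ⊗ₜ xT l n
  let b : Module.Basis (Λ →₀ ℕ) A D := bT.baseChange A
  have h0 : ∀ l, xD l 0 = 1 := fun l => by simp [xD, hT0, D, Algebra.TensorProduct.one_def]
  have hmul : ∀ l n m, xD l n * xD l m = ((n + m).choose n : D) * xD l (n + m) := fun l n m => by
    simp only [xD, Algebra.TensorProduct.tmul_mul_tmul, mul_one, hTmul, D]
    rw [← nsmul_eq_mul, ← nsmul_eq_mul, TensorProduct.tmul_smul]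
  have hb : ∀ e : Λ →₀ ℕ, b e = e.prod (fun l k => xD l k) := fun e => by
    show (bT.baseChange A) e = _
    rw [Module.Basis.baseChange_apply, hbT, Finsupp.prod, Finsupp.prod]
    exact map_prod (Algebra.TensorProduct.includeRight : T →ₐ[MvPolynomial A ℤ] D) _ _
  obtain ⟨γp, hγp, -⟩ := DPow29.existsUnique_dividedPowers xD h0 hmul b hb
  haveI : Module.Free A D := Module.Free.of_basis b
  obtain ⟨γe, hγe⟩ := exists_extension_of_flat (B := D) γ
  let G : Set D := {y : D | ∃ (l : Λ) (n : ℕ), 1 ≤ n ∧ y = xD l n}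
  obtain ⟨aug, haug⟩ := DPow29.exists_algHom xD h0 hmul b hb
    (fun _ n => if n = 0 then (1 : A) else 0) (fun l => if_pos rfl) (fun l n m => by
      rcases Nat.eq_zero_or_pos n with rfl | hn
      · simp
      · simp [hn.ne', (show n + m ≠ 0 by omega)])
  have hcompat : ∀ n, ∀ z ∈ I.map (algebraMap A D) ⊓ Ideal.span G, γe.dpow n z = γp.dpow n z := by
    rintro n z ⟨hz1, hz2⟩
    have hrepr : ∀ e, b.repr z e ∈ I := by
      intro e
      have hz' : z ∈ I • (⊤ : Submodule A D) := by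
        rw [Ideal.smul_top_eq_map]; exact hz1
      refine Submodule.smul_induction_on hz' (fun r hr m _ => ?_) (fun y w hy hw => ?_)
      · rw [map_smul, Finsupp.smul_apply, smul_eq_mul]; exact I.mul_mem_right _ hr
      · rw [map_add, Finsupp.add_apply]; exact add_mem hy hw
    have hzero : b.repr z 0 = 0 := by
      have hker : Ideal.span G ≤ RingHom.ker aug.toRingHom := Ideal.span_le.2 (by
        rintro _ ⟨l, m, hm, rfl⟩
        exact (haug l m).trans (if_neg (by omega)))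
      have h1 : aug z = b.repr z 0 := by
        conv_lhs => rw [← b.linearCombination_repr z]
        rw [Finsupp.linearCombination_apply, Finsupp.sum, map_sum, Finset.sum_eq_single 0]
        · rw [map_smul, DPow29.basis_zero xD h0 b hb, map_one, smul_eq_mul, mul_one]
        · intro e _ he
          obtain ⟨l, hl⟩ := Finsupp.support_nonempty_iff.mpr he
          rw [map_smul, hb, Finsupp.prod, map_prod,
            Finset.prod_eq_zero hl (by rw [haug, if_neg (Finsupp.mem_support_iff.mp hl)]), smul_zero]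
        · intro h
          rw [Finsupp.notMem_support_iff.1 h, zero_smul, map_zero]
      rw [← h1]
      exact hker hz2
    refine DividedPowers.coincide_on_smul γe γp ?_
    rw [← b.linearCombination_repr z, Finsupp.linearCombination_apply]
    refine Submodule.sum_mem _ fun e he => ?_
    show b.repr z e • b e ∈ _
    have hne : e ≠ 0 := fun he0 => Finsupp.mem_support_iff.1 he (by rw [he0, hzero])
    rw [Algebra.smul_def (b.repr z e) (b e)]
    exact Submodule.smul_mem_smul (Ideal.mem_map_of_mem (algebraMap A D) (hrepr e))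
      (DPow29.basis_mem_gens xD h0 b hb hne)
  obtain ⟨δ, ⟨hδe, hδp⟩, -⟩ := existsUnique_sup γe γp hcompat
  refine ⟨D, inferInstance, inferInstance, _, δ, fun l => xD l 1,
    fun l => Ideal.mem_sup_right (DPow29.mem_gens xD l le_rfl), ?_, ?_⟩
  · refine (DividedPowers.isDPMorphism_def _ _ _).2 ⟨le_sup_left, fun {n} a ha => ?_⟩
    rw [hδe n _ (Ideal.mem_map_of_mem _ ha), ← hγe.map_dpow ha]
  intro C _ _ K ε hAC k hk
  obtain ⟨φ, hφ⟩ := DPow29.exists_algHom xD h0 hmul b hb (fun l n => ε.dpow n (k l))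
    (fun l => ε.dpow_zero (hk l)) fun l n m => ε.mul_dpow (hk l)
  have hgen : I.map (algebraMap A D) ⊔ Ideal.span G = Ideal.span (algebraMap A D '' I ∪ G) := by
    rw [Ideal.span_union]; rfl
  refine ⟨φ, ⟨fun l => by rw [hφ, ε.dpow_one (hk l)], DividedPowers.IsDPMorphism.on_span δ ε hgen ?_ ?_⟩,
    fun ψ hψ => ?_⟩
  · rintro _ (⟨a, ha, rfl⟩ | ⟨l, n, hn, rfl⟩)
    · show φ _ ∈ K
      rw [φ.commutes]
      exact hAC.1 (Ideal.mem_map_of_mem _ ha)
    · show φ _ ∈ K
      rw [hφ]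
      exact ε.dpow_mem (by omega) (hk l)
  · rintro n _ (⟨a, ha, rfl⟩ | ⟨l, m, hm, rfl⟩)
    · show φ (δ.dpow n _) = ε.dpow n (φ _)
      rw [hδe n _ (Ideal.mem_map_of_mem _ ha), ← hγe.map_dpow ha, φ.commutes, φ.commutes, hAC.map_dpow ha]
    · show φ (δ.dpow n _) = ε.dpow n (φ _)
      rw [hδp n _ (DPow29.mem_gens xD l hm), ← hγp l m,
        γp.dpow_comp (by omega) (DPow29.mem_gens xD l le_rfl), hγp, hγp, map_mul, map_natCast, hφ, hφ,
        ε.dpow_comp (by omega) (hk l)]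
  · refine DPow29.algHom_ext xD b hb fun l n => ?_
    rw [hφ, ← hψ.1 l, ← hγp l n, ← hδp n _ (DPow29.mem_gens xD l le_rfl)]
    exact hψ.2.map_dpow (Ideal.mem_sup_right (DPow29.mem_gens xD l le_rfl))

theorem exists_envelope {A B : Type u} [CommRing A] [CommRing B] [Algebra A B] {I : Ideal A}
    (γ : DividedPowers I) (J : Ideal B) (hIJ : I.map (algebraMap A B) ≤ J) :
    ∃ (D : Type u) (_ : CommRing D) (_ : Algebra B D) (JD : Ideal D) (γD : DividedPowers JD),
      J.map (algebraMap B D) ≤ JD ∧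
      γ.IsDPMorphism γD ((algebraMap B D).comp (algebraMap A B)) ∧
      ∀ (C : Type u) [CommRing C] [Algebra A C] (K : Ideal C) (δ : DividedPowers K),
        γ.IsDPMorphism δ (algebraMap A C) →
        ∀ ψ : B →ₐ[A] C, J.map ψ ≤ K →
          ∃! χ : D →+* C, χ.comp (algebraMap B D) = ψ ∧ γD.IsDPMorphism δ χ := by
  classical
  let P0 := MvPolynomial B A
  let ev : P0 →ₐ[A] B := MvPolynomial.aeval id
  have hev : Function.Surjective ev := fun b => ⟨MvPolynomial.X b, MvPolynomial.aeval_X _ _⟩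
  obtain ⟨γ0, hγ0⟩ := exists_extension_of_flat (B := P0) γ
  let J' := J.comap ev
  obtain ⟨D0, _, _, J0, δ0, x, hx, hD0, huniv⟩ := exists_free γ0 J'
  let rels : Set D0 := (Set.range fun f : J' => x f - algebraMap P0 D0 f.1) ∪
    algebraMap P0 D0 '' {f | ev f = 0}
  let good : Ideal D0 → Prop := fun M => rels ⊆ M ∧
    ∀ n, n ≠ 0 → ∀ a ∈ M ⊓ J0, δ0.dpow n a ∈ M
  let N : Ideal D0 := sInf {M | good M}
  have hNrels : rels ⊆ N := fun a ha => Submodule.mem_sInf.2 fun M hM => hM.1 ha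
  have hNsub : δ0.IsSubDPIdeal (N ⊓ J0) :=
    { isSubideal := inf_le_right
      dpow_mem := fun n hn a ha => ⟨Submodule.mem_sInf.2 fun M hM =>
        hM.2 n hn a ⟨Submodule.mem_sInf.1 ha.1 M hM, ha.2⟩, δ0.dpow_mem hn ha.2⟩ }
  let mk := Ideal.Quotient.mk N
  let γD := DividedPowers.Quotient.dividedPowers δ0 hNsub
  have hmkD : δ0.IsDPMorphism γD mk := DividedPowers.Quotient.isDPMorphism δ0 hNsub
  let e : P0 →+* D0 ⧸ N := mk.comp (algebraMap P0 D0)
  have he : RingHom.ker ev.toRingHom ≤ RingHom.ker e := fun f hf =>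
    Ideal.Quotient.eq_zero_iff_mem.2 (hNrels (Or.inr ⟨f, hf, rfl⟩))
  let toD : B →+* D0 ⧸ N := RingHom.liftOfRightInverse ev.toRingHom (Function.surjInv hev)
    (Function.rightInverse_surjInv hev) ⟨e, he⟩
  have htoD : ∀ f, toD (ev f) = e f := fun f =>
    RingHom.liftOfRightInverse_comp_apply ev.toRingHom _ (Function.rightInverse_surjInv hev) ⟨e, he⟩ f
  letI : Algebra B (D0 ⧸ N) := toD.toAlgebra
  refine ⟨D0 ⧸ N, inferInstance, inferInstance, J0.map mk, γD, ?_, ?_, ?_⟩
  · refine Ideal.map_le_iff_le_comap.2 fun j hj => ?_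
    obtain ⟨f, rfl⟩ := hev j
    show toD (ev f) ∈ J0.map mk
    have h : e f = mk (x ⟨f, hj⟩) :=
      (Ideal.Quotient.eq.2 (hNrels (Or.inl ⟨⟨f, hj⟩, rfl⟩))).symm
    rw [htoD, h]
    exact Ideal.mem_map_of_mem _ (hx _)
  · have h : (toD).comp (algebraMap A B) = (mk.comp (algebraMap P0 D0)).comp (algebraMap A P0) :=
      RingHom.ext fun a => by
        show toD (algebraMap A B a) = e (algebraMap A P0 a)
        rw [← htoD, AlgHom.commutes]
    rw [show algebraMap B (D0 ⧸ N) = toD from rfl, h]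
    exact DividedPowers.IsDPMorphism.comp _ (DividedPowers.IsDPMorphism.comp _ hmkD hD0) hγ0
  intro C _ _ K ε hAC ψ hψ
  let θ : P0 →+* C := ψ.toRingHom.comp ev.toRingHom
  letI : Algebra P0 C := θ.toAlgebra
  have hθ : ∀ f, algebraMap P0 C f = ψ (ev f) := fun f => rfl
  have hθA : ∀ a, algebraMap P0 C (algebraMap A P0 a) = algebraMap A C a := fun a => by
    rw [hθ, AlgHom.commutes, AlgHom.commutes]
  have hθdp : γ0.IsDPMorphism ε (algebraMap P0 C) := by
    refine DividedPowers.IsDPMorphism.on_span γ0 ε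
      (show I.map (algebraMap A P0) = Ideal.span (algebraMap A P0 '' I) from rfl) ?_ ?_
    · rintro _ ⟨a, ha, rfl⟩
      rw [hθA]
      exact hAC.1 (Ideal.mem_map_of_mem _ ha)
    · rintro n _ ⟨a, ha, rfl⟩
      rw [← hγ0.map_dpow ha, hθA, hθA, hAC.map_dpow ha]
  obtain ⟨φ0, ⟨hφx, hφdp⟩, huniq⟩ := huniv C K ε hθdp (fun f => ψ (ev f.1))
    (fun f => hψ (Ideal.mem_map_of_mem _ f.2))
  have hNker : N ≤ RingHom.ker φ0.toRingHom := sInf_le ⟨by
    rintro _ (⟨f, rfl⟩ | ⟨f, hf, rfl⟩)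
    · show φ0 (x f - algebraMap P0 D0 f.1) = 0
      rw [map_sub, hφx, φ0.commutes, hθ, sub_self]
    · show φ0 (algebraMap P0 D0 f) = 0
      rw [φ0.commutes, hθ, show ev f = 0 from hf, map_zero],
    fun n hn a ha => by
      show φ0.toRingHom (δ0.dpow n a) = 0
      rw [hφdp.map_dpow ha.2, show φ0.toRingHom a = 0 from ha.1]
      exact ε.dpow_eval_zero hn⟩
  let χ : D0 ⧸ N →+* C := Ideal.Quotient.lift N φ0.toRingHom fun a ha => hNker ha
  have hχ : ∀ a, χ (mk a) = φ0 a := fun a => rfl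
  refine ⟨χ, ⟨?_, ?_⟩, fun χ' hχ' => ?_⟩
  · refine RingHom.ext fun b => ?_
    obtain ⟨f, rfl⟩ := hev b
    show χ (toD (ev f)) = ψ (ev f)
    rw [htoD, show e f = mk (algebraMap P0 D0 f) from rfl, hχ, φ0.commutes, hθ]
  · refine DividedPowers.IsDPMorphism.on_span γD ε
      (show J0.map mk = Ideal.span (mk '' J0) from rfl) ?_ ?_
    · rintro _ ⟨a, ha, rfl⟩
      rw [hχ]
      exact hφdp.1 (Ideal.mem_map_of_mem _ ha)
    · rintro n _ ⟨a, ha, rfl⟩
      rw [← hmkD.map_dpow ha, hχ, hχ]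
      exact hφdp.map_dpow ha
  · let φ' : D0 →ₐ[P0] C := ⟨χ'.comp mk, fun f => by
      show χ' (e f) = ψ (ev f)
      rw [← htoD]
      exact RingHom.congr_fun hχ'.1 (ev f)⟩
    have : φ' = φ0 := huniq φ' ⟨fun f => by
      show χ' (mk (x f)) = ψ (ev f.1)
      have h : mk (x f) = e f.1 := Ideal.Quotient.eq.2 (hNrels (Or.inl ⟨f, rfl⟩))
      rw [h, ← htoD]
      exact RingHom.congr_fun hχ'.1 (ev f.1),
      DividedPowers.IsDPMorphism.comp _ hχ'.2 hmkD⟩
    exact Ideal.Quotient.ringHom_ext (RingHom.ext fun a => AlgHom.congr_fun this a)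

end Groth.Agent.DPow28
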