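import Groth.Agent.DPow29.Construct
import Mathlib.RingTheory.Flat.Basic
import Mathlib.LinearAlgebra.TensorProduct.Tower
import Mathlib.RingTheory.PowerSeries.Basic

/-! Divided powers from generators; sums of ideals; extensions. -/

set_option autoImplicit false

universe u v

namespace Groth.Agent.DPow28

open Finset TensorProduct

/-- The axioms need only be checked on generators. -/
theorem exists_of_generators {A : Type u} [CommRing A] (I : Ideal A) (S : Set A)
    (hS : Ideal.span S = I) (d : ℕ → A → A) (h_null : ∀ (n : ℕ) (x : A), x ∉ I → d n x = 0)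
    (h_zero : ∀ x ∈ I, d 0 x = 1) (h_one : ∀ x ∈ I, d 1 x = x)
    (h_mem : ∀ (n : ℕ) (x : A), n ≠ 0 → x ∈ I → d n x ∈ I)
    (h_add : ∀ (n : ℕ) (x y : A), x ∈ I → y ∈ I →
      d n (x + y) = (Finset.antidiagonal n).sum fun k => d k.1 x * d k.2 y)
    (h_mul : ∀ (n : ℕ) (a x : A), x ∈ I → d n (a * x) = a ^ n * d n x)
    (h_mul_dpow : ∀ (m n : ℕ) (x : A), x ∈ S → d m x * d n x = (m + n).choose m * d (m + n) x)
    (h_comp : ∀ (m n : ℕ) (x : A), n ≠ 0 → x ∈ S →
      d m (d n x) = Nat.uniformBell m n * d (m * n) x) :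
    ∃ γ : DividedPowers I, γ.dpow = d := by
  classical
  obtain ⟨T, _, _, _, xT, bT, hT0, hTmul, hbT⟩ := DPow29.exists_model.{u, u} S A
  obtain ⟨γT, hγT⟩ := DPow29.exists_dividedPowers_of_isAddTorsionFree xT hT0 hTmul
  let σ : MvPolynomial A ℤ →+* A := MvPolynomial.eval₂Hom (Int.castRingHom A) id
  letI : Algebra (MvPolynomial A ℤ) A := σ.toAlgebra
  have hSI : ∀ s : S, (s : A) ∈ I := fun s => hS ▸ Ideal.subset_span s.2
  obtain ⟨φ, hφ⟩ := DPow29.exists_algHom xT hT0 hTmul bT hbT (fun (s : S) n => d n s)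
    (fun s => h_zero _ (hSI s)) fun s n m => h_mul_dpow n m s s.2
  let J := Ideal.span {y : T | ∃ (l : S) (n : ℕ), 1 ≤ n ∧ y = xT l n}
  have key : ∀ q ∈ J, φ q ∈ I ∧ ∀ k, φ (γT.dpow k q) = d k (φ q) := by
    intro q hq
    induction hq using Submodule.span_induction with
    | mem q hq =>
      obtain ⟨l, n, hn, rfl⟩ := hq
      refine ⟨?_, fun k => ?_⟩
      · rw [hφ]; exact h_mem n _ (by omega) (hSI l)
      · rw [← hγT l n, γT.dpow_comp (by omega) (DPow29.mem_gens xT l le_rfl), hγT, hγT, map_mul,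
          map_natCast, hφ, hφ, h_comp k n _ (by omega) l.2]
    | zero =>
      refine ⟨by simp, fun k => ?_⟩
      rw [map_zero]
      rcases Nat.eq_zero_or_pos k with rfl | hk
      · rw [γT.dpow_zero J.zero_mem, map_one, h_zero _ I.zero_mem]
      · have h0 : d k 0 = 0 := by
          have := h_mul k 0 0 I.zero_mem
          rwa [zero_mul, zero_pow hk.ne', zero_mul] at this
        rw [γT.dpow_eval_zero hk.ne', map_zero, h0]
    | add p q hp' hq' hp hq =>
      refine ⟨by rw [map_add]; exact add_mem hp.1 hq.1, fun k => ?_⟩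
      rw [γT.dpow_add hp' hq', map_sum, map_add, h_add k _ _ hp.1 hq.1]
      exact Finset.sum_congr rfl fun i _ => by rw [map_mul, hp.2, hq.2]
    | smul r p hp' hp =>
      refine ⟨by rw [smul_eq_mul, map_mul]; exact I.mul_mem_left _ hp.1, fun k => ?_⟩
      rw [smul_eq_mul, γT.dpow_mul hp', map_mul, map_mul, map_pow, hp.2, h_mul k _ _ hp.1]
  have pre : ∀ x ∈ I, ∃ q ∈ J, φ q = x := by
    intro x hx
    rw [← hS] at hx
    induction hx using Submodule.span_induction with
    | mem s hs => exact ⟨_, DPow29.mem_gens xT ⟨s, hs⟩ le_rfl, by rw [hφ]; exact h_one _ (hSI ⟨s, hs⟩)⟩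
    | zero => exact ⟨0, J.zero_mem, map_zero φ⟩
    | add x y _ _ hx hy =>
      obtain ⟨p, hp, rfl⟩ := hx
      obtain ⟨q, hq, rfl⟩ := hy
      exact ⟨p + q, add_mem hp hq, map_add φ p q⟩
    | smul a x _ hx =>
      obtain ⟨p, hp, rfl⟩ := hx
      refine ⟨algebraMap (MvPolynomial A ℤ) T (MvPolynomial.X a) * p, J.mul_mem_left _ hp, ?_⟩
      rw [map_mul, φ.commutes, smul_eq_mul]
      show σ (MvPolynomial.X a) * φ p = a * φ p
      simp [σ]
  refine ⟨
    { dpow := d
      dpow_null := fun {n x} hx => h_null n x hx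
      dpow_zero := fun {x} hx => h_zero x hx
      dpow_one := fun {x} hx => h_one x hx
      dpow_mem := fun {n x} hn hx => h_mem n x hn hx
      dpow_add := fun {n x y} hx hy => h_add n x y hx hy
      dpow_mul := fun {n a x} hx => h_mul n a x hx
      mul_dpow := fun {m n x} hx => by
        obtain ⟨q, hq, rfl⟩ := pre x hx
        rw [← (key q hq).2, ← (key q hq).2, ← (key q hq).2, ← map_mul, γT.mul_dpow hq, map_mul,
          map_natCast]
      dpow_comp := fun {m n x} hn hx => by
        obtain ⟨q, hq, rfl⟩ := pre x hx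
        rw [← (key q hq).2 n, ← (key _ (γT.dpow_mem hn hq)).2 m, ← (key q hq).2, γT.dpow_comp hn hq,
          map_mul, map_natCast] }, rfl⟩

/-- Divided powers from an exponential defined on a cover of the ideal. -/
theorem exists_of_exp {A : Type u} [CommRing A] (I : Ideal A) (S : Set A) (hS : Ideal.span S = I)
    (E : I → PowerSeries A) (hE0 : ∀ x, PowerSeries.coeff 0 (E x) = 1)
    (hE1 : ∀ x, PowerSeries.coeff 1 (E x) = x.1)
    (hEmem : ∀ x n, n ≠ 0 → PowerSeries.coeff n (E x) ∈ I)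
    (hEadd : ∀ x y, E (x + y) = E x * E y)
    (hEmul : ∀ (a : A) (x : I) n, PowerSeries.coeff n (E (a • x)) = a ^ n * PowerSeries.coeff n (E x))
    (hEmd : ∀ (m n : ℕ) (x : I), x.1 ∈ S → PowerSeries.coeff m (E x) * PowerSeries.coeff n (E x) =
      (m + n).choose m * PowerSeries.coeff (m + n) (E x))
    (hEc : ∀ (m n : ℕ) (x : I) (hn : n ≠ 0), x.1 ∈ S →
      PowerSeries.coeff m (E ⟨PowerSeries.coeff n (E x), hEmem x n hn⟩) =
        Nat.uniformBell m n * PowerSeries.coeff (m * n) (E x)) :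
    ∃ γ : DividedPowers I, ∀ n (x : I), γ.dpow n x = PowerSeries.coeff n (E x) := by
  classical
  let d : ℕ → A → A := fun n x => if h : x ∈ I then PowerSeries.coeff n (E ⟨x, h⟩) else 0
  have hd : ∀ n (x : A) (h : x ∈ I), d n x = PowerSeries.coeff n (E ⟨x, h⟩) := fun n x h => dif_pos h
  obtain ⟨γ, hγ⟩ := exists_of_generators I S hS d (fun n x hx => dif_neg hx)
    (fun x hx => by rw [hd _ _ hx, hE0]) (fun x hx => by rw [hd _ _ hx, hE1])
    (fun n x hn hx => by rw [hd _ _ hx]; exact hEmem _ n hn)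
    (fun n x y hx hy => by
      rw [hd _ _ (add_mem hx hy), show (⟨x + y, add_mem hx hy⟩ : I) = ⟨x, hx⟩ + ⟨y, hy⟩ from rfl,
        hEadd, PowerSeries.coeff_mul]
      exact Finset.sum_congr rfl fun k _ => by rw [hd _ _ hx, hd _ _ hy])
    (fun n a x hx => by
      rw [hd _ _ (I.mul_mem_left a hx), hd _ _ hx,
        show (⟨a * x, I.mul_mem_left a hx⟩ : I) = a • ⟨x, hx⟩ from rfl, hEmul])
    (fun m n x hx => by
      have hxI : x ∈ I := hS ▸ Ideal.subset_span hx
      rw [hd _ _ hxI, hd _ _ hxI, hd _ _ hxI, hEmd _ _ ⟨x, hxI⟩ hx])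
    (fun m n x hn hx => by
      have hxI : x ∈ I := hS ▸ Ideal.subset_span hx
      rw [hd n _ hxI, hd _ _ (hEmem _ n hn), hd _ _ hxI, hEc m n ⟨x, hxI⟩ hn hx])
  exact ⟨γ, fun n x => by rw [hγ, hd _ _ x.2]⟩

variable {A : Type u} [CommRing A]

theorem exp_zero {I : Ideal A} (γ : DividedPowers I) : γ.exp 0 = 1 := by
  ext n
  rw [DividedPowers.exp, PowerSeries.coeff_mk, PowerSeries.coeff_one]
  split_ifs with h
  · subst h; exact γ.dpow_zero I.zero_mem
  · exact γ.dpow_eval_zero h

theorem coeff_exp {I : Ideal A} (γ : DividedPowers I) (n : ℕ) (x : A) :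
    PowerSeries.coeff n (γ.exp x) = γ.dpow n x := PowerSeries.coeff_mk _ _

/-- Divided powers on a sum of two ideals. -/
theorem existsUnique_sup {I J : Ideal A} (γ : DividedPowers I) (δ : DividedPowers J)
    (h : ∀ (n : ℕ) (x : A), x ∈ I ⊓ J → γ.dpow n x = δ.dpow n x) :
    ∃! ε : DividedPowers (I ⊔ J),
      (∀ (n : ℕ) (x : A), x ∈ I → ε.dpow n x = γ.dpow n x) ∧
        (∀ (n : ℕ) (x : A), x ∈ J → ε.dpow n x = δ.dpow n x) := by
  classical
  have hsplit : ∀ z : ↥(I ⊔ J), ∃ x ∈ I, ∃ y ∈ J, x + y = z.1 := fun z => Submodule.mem_sup.1 z.2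
  choose x hx y hy hxy using hsplit
  let E : ↥(I ⊔ J) → PowerSeries A := fun z => γ.exp (x z) * δ.exp (y z)
  have hwd : ∀ (z : ↥(I ⊔ J)) a b, a ∈ I → b ∈ J → a + b = z.1 → E z = γ.exp a * δ.exp b := by
    intro z a b ha hb hab
    set w := x z - a with hw
    have hw2 : w = b - y z := by rw [hw]; linear_combination hxy z - hab
    have hwI : w ∈ I := sub_mem (hx z) ha
    have hwJ : w ∈ J := hw2 ▸ sub_mem hb (hy z)
    have e : γ.exp w = δ.exp w := by
      ext n; rw [coeff_exp, coeff_exp]; exact h n w ⟨hwI, hwJ⟩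
    show γ.exp (x z) * δ.exp (y z) = _
    rw [show x z = a + w by rw [hw]; ring, show b = w + y z by rw [hw2]; ring, γ.exp_add ha hwI,
      δ.exp_add hwJ (hy z), e, mul_assoc]
  have hI : ∀ (z : ↥(I ⊔ J)), z.1 ∈ I → E z = γ.exp z.1 := fun z hz => by
    rw [hwd z z.1 0 hz J.zero_mem (add_zero _), exp_zero, mul_one]
  have hJ : ∀ (z : ↥(I ⊔ J)), z.1 ∈ J → E z = δ.exp z.1 := fun z hz => by
    rw [hwd z 0 z.1 I.zero_mem hz (zero_add _), exp_zero, one_mul]
  have hmemE : ∀ (z : ↥(I ⊔ J)) n, n ≠ 0 → PowerSeries.coeff n (E z) ∈ I ⊔ J := fun z n hn => by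
    rw [PowerSeries.coeff_mul]
    refine Submodule.sum_mem _ fun k hk => ?_
    rw [coeff_exp, coeff_exp]
    rcases Nat.eq_zero_or_pos k.1 with h0 | h0
    · have : k.2 ≠ 0 := by rw [Finset.mem_antidiagonal] at hk; omega
      exact Ideal.mul_mem_left _ _ (Ideal.mem_sup_right (δ.dpow_mem this (hy z)))
    · exact Ideal.mul_mem_right _ _ (Ideal.mem_sup_left (γ.dpow_mem h0.ne' (hx z)))
  obtain ⟨ε, hε⟩ := exists_of_exp (I ⊔ J) ((I : Set A) ∪ J) (by rw [Ideal.span_union, Ideal.span_eq, Ideal.span_eq]) E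
    (fun z => by
      rw [PowerSeries.coeff_mul]
      simp [coeff_exp, γ.dpow_zero (hx z), δ.dpow_zero (hy z)])
    (fun z => by
      rw [PowerSeries.coeff_mul, Finset.Nat.antidiagonal_succ]
      simp [coeff_exp, γ.dpow_zero (hx z), δ.dpow_zero (hy z), γ.dpow_one (hx z), δ.dpow_one (hy z)]
      rw [← hxy z]; ring)
    hmemE
    (fun z z' => by
      rw [hwd (z + z') (x z + x z') (y z + y z') (add_mem (hx z) (hx z')) (add_mem (hy z) (hy z'))
        (by rw [Submodule.coe_add, ← hxy z, ← hxy z']; ring), γ.exp_add (hx z) (hx z'),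
        δ.exp_add (hy z) (hy z')]
      show _ = γ.exp (x z) * δ.exp (y z) * (γ.exp (x z') * δ.exp (y z'))
      ring)
    (fun a z n => by
      rw [hwd (a • z) (a * x z) (a * y z) (I.mul_mem_left a (hx z)) (J.mul_mem_left a (hy z))
        (by rw [← mul_add, hxy z]; rfl)]
      simp only [E, PowerSeries.coeff_mul, Finset.mul_sum]
      refine Finset.sum_congr rfl fun k hk => ?_
      rw [coeff_exp, coeff_exp, coeff_exp, coeff_exp, γ.dpow_mul (hx z), δ.dpow_mul (hy z),
        ← Finset.mem_antidiagonal.1 hk, pow_add]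
      ring)
    (fun m n z hz => by
      rcases hz with hz | hz
      · simp only [hI z hz, coeff_exp]; exact γ.mul_dpow hz
      · simp only [hJ z hz, coeff_exp]; exact δ.mul_dpow hz)
    (fun m n z hn hz => by
      rcases hz with hz | hz
      · have e : PowerSeries.coeff n (E z) = γ.dpow n z.1 := by rw [hI z hz, coeff_exp]
        rw [hI ⟨PowerSeries.coeff n (E z), hmemE z n hn⟩ (show PowerSeries.coeff n (E z) ∈ I from
          e ▸ γ.dpow_mem hn hz), coeff_exp]
        show γ.dpow m (PowerSeries.coeff n (E z)) = _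
        rw [e, hI z hz, coeff_exp]
        exact γ.dpow_comp hn hz
      · have e : PowerSeries.coeff n (E z) = δ.dpow n z.1 := by rw [hJ z hz, coeff_exp]
        rw [hJ ⟨PowerSeries.coeff n (E z), hmemE z n hn⟩ (show PowerSeries.coeff n (E z) ∈ J from
          e ▸ δ.dpow_mem hn hz), coeff_exp]
        show δ.dpow m (PowerSeries.coeff n (E z)) = _
        rw [e, hJ z hz, coeff_exp]
        exact δ.dpow_comp hn hz)
  refine ⟨ε, ⟨fun n z hz => ?_, fun n z hz => ?_⟩, fun ε' hε' => ?_⟩
  · rw [hε n ⟨z, Ideal.mem_sup_left hz⟩, hI _ hz, coeff_exp]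
  · rw [hε n ⟨z, Ideal.mem_sup_right hz⟩, hJ _ hz, coeff_exp]
  · refine DividedPowers.dpow_eq_from_gens _ _ (show I ⊔ J = Ideal.span ((I : Set A) ∪ J) by
      rw [Ideal.span_union, Ideal.span_eq, Ideal.span_eq]) ?_
    rintro n z (hz | hz)
    · rw [hε'.1 n z hz, hε n ⟨z, Ideal.mem_sup_left hz⟩, hI _ hz, coeff_exp]
    · rw [hε'.2 n z hz, hε n ⟨z, Ideal.mem_sup_right hz⟩, hJ _ hz, coeff_exp]

variable {B : Type v} [CommRing B] [Algebra A B]

theorem eq_of_isDPMorphism {I : Ideal A} (γ : DividedPowers I)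
    (δ δ' : DividedPowers (I.map (algebraMap A B))) (h : γ.IsDPMorphism δ (algebraMap A B))
    (h' : γ.IsDPMorphism δ' (algebraMap A B)) : δ = δ' :=
  (DividedPowers.dpow_eq_from_gens δ δ' (rfl : I.map (algebraMap A B) = Ideal.span (algebraMap A B '' I))
    fun {n} x hx => by
      obtain ⟨a, ha, rfl⟩ := hx
      rw [← h.map_dpow ha, ← h'.map_dpow ha]).symm

/-- The exponential of `b ⊗ x`. -/
noncomputable def texp {I : Ideal A} (γ : DividedPowers I) (b : B) (x : A) : PowerSeries B :=
  PowerSeries.mk fun n => b ^ n * algebraMap A B (γ.dpow n x)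

theorem coeff_texp {I : Ideal A} (γ : DividedPowers I) (b : B) (x : A) (n : ℕ) :
    PowerSeries.coeff n (texp γ b x) = b ^ n * algebraMap A B (γ.dpow n x) := PowerSeries.coeff_mk _ _

theorem texp_add_left {I : Ideal A} (γ : DividedPowers I) (b b' : B) {x : A} (hx : x ∈ I) :
    texp γ (b + b') x = texp γ b x * texp γ b' x := by
  ext n
  rw [PowerSeries.coeff_mul, coeff_texp, add_pow, Finset.sum_mul,
    Finset.Nat.sum_antidiagonal_eq_sum_range_succ_mk]
  refine Finset.sum_congr rfl fun k hk => ?_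
  have h : k + (n - k) = n := by rw [Finset.mem_range] at hk; omega
  rw [coeff_texp, coeff_texp,
    show b ^ k * algebraMap A B (γ.dpow k x) * (b' ^ (n - k) * algebraMap A B (γ.dpow (n - k) x)) =
      b ^ k * b' ^ (n - k) * algebraMap A B (γ.dpow k x * γ.dpow (n - k) x) by rw [map_mul]; ring,
    γ.mul_dpow hx, h, map_mul, map_natCast]
  ring

theorem texp_add_right {I : Ideal A} (γ : DividedPowers I) (b : B) {x y : A} (hx : x ∈ I)
    (hy : y ∈ I) : texp γ b (x + y) = texp γ b x * texp γ b y := by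
  ext n
  rw [PowerSeries.coeff_mul, coeff_texp, γ.dpow_add hx hy, map_sum, Finset.mul_sum]
  refine Finset.sum_congr rfl fun k hk => ?_
  rw [coeff_texp, coeff_texp, ← Finset.mem_antidiagonal.1 hk, pow_add, map_mul]
  ring

theorem texp_zero_left {I : Ideal A} (γ : DividedPowers I) {x : A} (hx : x ∈ I) :
    texp γ (0 : B) x = 1 := by
  ext n
  rw [coeff_texp, PowerSeries.coeff_one]
  split_ifs with h
  · subst h; simp [γ.dpow_zero hx]
  · rw [zero_pow h, zero_mul]

theorem texp_zero_right {I : Ideal A} (γ : DividedPowers I) (b : B) : texp γ b 0 = 1 := by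
  ext n
  rw [coeff_texp, PowerSeries.coeff_one]
  split_ifs with h
  · subst h; simp [γ.dpow_zero I.zero_mem]
  · rw [γ.dpow_eval_zero h, map_zero, mul_zero]

/-- Flat extension of divided powers. -/
theorem exists_extension_of_flat [Module.Flat A B] {I : Ideal A} (γ : DividedPowers I) :
    ∃ δ : DividedPowers (I.map (algebraMap A B)), γ.IsDPMorphism δ (algebraMap A B) := by
  classical
  let f : B →+ I →+ Additive (PowerSeries B) :=
    { toFun := fun b =>
        { toFun := fun x => Additive.ofMul (texp γ b x.1)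
          map_zero' := congrArg Additive.ofMul (texp_zero_right γ b)
          map_add' := fun x y => congrArg Additive.ofMul (texp_add_right γ b x.2 y.2) }
      map_zero' := AddMonoidHom.ext fun x => congrArg Additive.ofMul (texp_zero_left γ x.2)
      map_add' := fun b b' => AddMonoidHom.ext fun x =>
        congrArg Additive.ofMul (texp_add_left γ b b' x.2) }
  let F : B ⊗[A] I →+ Additive (PowerSeries B) := TensorProduct.liftAddHom f fun a b x => by
    refine congrArg Additive.ofMul (PowerSeries.ext fun n => ?_)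
    show PowerSeries.coeff n (texp γ (a • b) x.1) = PowerSeries.coeff n (texp γ b (a • x).1)
    rw [coeff_texp, coeff_texp, Algebra.smul_def, mul_pow,
      show (a • x).1 = a * x.1 from rfl, γ.dpow_mul x.2, map_mul, map_pow]
    ring
  let μ : B ⊗[A] I →ₗ[A] B := (TensorProduct.rid A B).toLinearMap.comp (LinearMap.lTensor B I.subtype)
  have hμ : ∀ b x, μ (b ⊗ₜ x) = b * algebraMap A B x.1 := fun b x => by
    simp [μ, Algebra.smul_def, mul_comm]
  have hμinj : Function.Injective μ := (TensorProduct.rid A B).injective.comp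
    (Module.Flat.lTensor_preserves_injective_linearMap I.subtype Subtype.val_injective)
  have hsm : ∀ (c : B) (w : B ⊗[A] I), μ (c • w) = c * μ w := by
    intro c w
    induction w using TensorProduct.induction_on with
    | zero => simp
    | add u v hu hv => rw [smul_add, map_add, map_add, hu, hv, mul_add]
    | tmul b x => rw [TensorProduct.smul_tmul', smul_eq_mul, hμ, hμ, mul_assoc]
  have hpre : ∀ z : ↥(I.map (algebraMap A B)), ∃ w, μ w = z.1 := by
    rintro ⟨z, hz⟩
    induction hz using Submodule.span_induction with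
    | mem z hz =>
      obtain ⟨a, ha, rfl⟩ := hz
      exact ⟨1 ⊗ₜ ⟨a, ha⟩, by rw [hμ, one_mul]⟩
    | zero => exact ⟨0, map_zero μ⟩
    | add a b _ _ ha hb =>
      obtain ⟨u, hu⟩ := ha
      obtain ⟨v, hv⟩ := hb
      exact ⟨u + v, by rw [map_add, hu, hv]⟩
    | smul c a _ ha =>
      obtain ⟨u, hu⟩ := ha
      exact ⟨c • u, by rw [hsm, hu]; rfl⟩
  choose W hW using hpre
  let G : B ⊗[A] I → PowerSeries B := fun w => Additive.toMul (F w)
  have hG : ∀ b x, G (b ⊗ₜ x) = texp γ b x.1 := fun b x => rfl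
  have hG0 : G 0 = 1 := by simp [G]
  have hGadd : ∀ u v, G (u + v) = G u * G v := fun u v => by simp [G]
  have hprop : ∀ w, PowerSeries.coeff 0 (G w) = 1 ∧ PowerSeries.coeff 1 (G w) = μ w ∧
      (∀ n, n ≠ 0 → PowerSeries.coeff n (G w) ∈ I.map (algebraMap A B)) ∧
      ∀ (c : B) n, PowerSeries.coeff n (G (c • w)) = c ^ n * PowerSeries.coeff n (G w) := by
    intro w
    induction w using TensorProduct.induction_on with
    | zero =>
      refine ⟨by simp [hG0], by simp [hG0], fun n hn => by simp [hG0, hn], fun c n => ?_⟩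
      rw [smul_zero, hG0, PowerSeries.coeff_one]
      split_ifs with hn <;> simp [hn]
    | tmul b x =>
      refine ⟨by rw [hG, coeff_texp, γ.dpow_zero x.2]; simp, by rw [hG, coeff_texp, γ.dpow_one x.2, hμ, pow_one],
        fun n hn => by
          rw [hG, coeff_texp]
          exact Ideal.mul_mem_left _ _ (Ideal.mem_map_of_mem _ (γ.dpow_mem hn x.2)),
        fun c n => by rw [TensorProduct.smul_tmul', smul_eq_mul, hG, hG, coeff_texp, coeff_texp, mul_pow, mul_assoc]⟩
    | add u v hu hv =>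
      obtain ⟨u0, u1, um, us⟩ := hu
      obtain ⟨v0, v1, vm, vs⟩ := hv
      refine ⟨?_, ?_, fun n hn => ?_, fun c n => ?_⟩
      · rw [hGadd, PowerSeries.coeff_mul]; simp [u0, v0]
      · rw [hGadd, PowerSeries.coeff_mul, Finset.Nat.antidiagonal_succ]
        simp [u0, v0, u1, v1]; ring
      · rw [hGadd, PowerSeries.coeff_mul]
        refine Submodule.sum_mem _ fun k hk => ?_
        rcases Nat.eq_zero_or_pos k.1 with h0 | h0
        · exact Ideal.mul_mem_left _ _ (vm _ (by rw [Finset.mem_antidiagonal] at hk; omega))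
        · exact Ideal.mul_mem_right _ _ (um _ h0.ne')
      · rw [smul_add, hGadd, hGadd, PowerSeries.coeff_mul, PowerSeries.coeff_mul, Finset.mul_sum]
        refine Finset.sum_congr rfl fun k hk => ?_
        rw [us, vs, ← Finset.mem_antidiagonal.1 hk, pow_add]
        ring
  have hgen : ∀ (a : A) (ha : a ∈ I) (h : algebraMap A B a ∈ I.map (algebraMap A B)),
      W ⟨_, h⟩ = 1 ⊗ₜ ⟨a, ha⟩ := fun a ha h => hμinj (by rw [hW, hμ, one_mul])
  obtain ⟨δ, hδ⟩ := exists_of_exp (I.map (algebraMap A B)) (algebraMap A B '' I) rfl (fun z => G (W z))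
    (fun z => (hprop _).1) (fun z => (hprop _).2.1.trans (hW z)) (fun z => (hprop _).2.2.1)
    (fun z z' => by
      rw [← hGadd]
      exact congrArg G (hμinj (by rw [hW, map_add, hW, hW]; rfl)))
    (fun c z n => by
      rw [show W (c • z) = c • W z from hμinj (by rw [hW, hsm, hW]; rfl), (hprop _).2.2.2])
    (fun m n z hz => by
      obtain ⟨z, hzm⟩ := z
      obtain ⟨a, ha, rfl⟩ := hz
      simp only [hgen a ha hzm, hG, coeff_texp, one_pow, one_mul, ← map_mul, γ.mul_dpow ha]
      rw [map_mul, map_natCast])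
    (fun m n z hn hz => by
      obtain ⟨z, hzm⟩ := z
      obtain ⟨a, ha, rfl⟩ := hz
      have e : PowerSeries.coeff n (G (W ⟨_, hzm⟩)) = algebraMap A B (γ.dpow n a) := by
        rw [hgen a ha hzm, hG, coeff_texp, one_pow, one_mul]
      simp only [e, hgen _ (γ.dpow_mem hn ha), hgen a ha hzm, hG, coeff_texp, one_pow, one_mul,
        γ.dpow_comp hn ha, map_mul, map_natCast])
  refine ⟨δ, (DividedPowers.isDPMorphism_def _ _ _).2 ⟨le_rfl, fun {n} a ha => ?_⟩⟩
  rw [hδ n ⟨_, Ideal.mem_map_of_mem _ ha⟩, hgen a ha, hG, coeff_texp, one_pow, one_mul]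

/-- Extension along any map of a principal divided power ideal. -/
theorem exists_extension_singleton (x : A) (γ : DividedPowers (Ideal.span {x})) :
    ∃ δ : DividedPowers ((Ideal.span {x}).map (algebraMap A B)), γ.IsDPMorphism δ (algebraMap A B) := by
  classical
  have hx : x ∈ Ideal.span {x} := Ideal.mem_span_singleton_self x
  have hmap : (Ideal.span {x}).map (algebraMap A B) = Ideal.span {algebraMap A B x} := by
    rw [Ideal.map_span, Set.image_singleton]
  have hpre : ∀ z : ↥((Ideal.span {x}).map (algebraMap A B)), ∃ b, b * algebraMap A B x = z.1 := by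
    rintro ⟨z, hz⟩
    rw [hmap] at hz
    exact Ideal.mem_span_singleton'.1 hz
  choose c hc using hpre
  have hwd : ∀ (b b' : B), b * algebraMap A B x = b' * algebraMap A B x →
      texp γ b x = texp γ b' x := by
    intro b b' h
    ext n
    rw [coeff_texp, coeff_texp]
    rcases Nat.eq_zero_or_pos n with rfl | hn
    · simp
    obtain ⟨a, ha⟩ := Ideal.mem_span_singleton'.1 (γ.dpow_mem hn.ne' hx)
    obtain ⟨k, hk⟩ : b - b' ∣ b ^ n - b' ^ n := sub_dvd_pow_sub_pow b b' n
    rw [← sub_eq_zero, ← sub_mul, hk, ← ha, map_mul]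
    linear_combination (k * algebraMap A B a) * h
  let E : ↥((Ideal.span {x}).map (algebraMap A B)) → PowerSeries B := fun z => texp γ (c z) x
  have hE : ∀ z b, b * algebraMap A B x = z.1 → E z = texp γ b x := fun z b hb =>
    hwd _ _ ((hc z).trans hb.symm)
  obtain ⟨δ, hδ⟩ := exists_of_exp ((Ideal.span {x}).map (algebraMap A B)) {algebraMap A B x} hmap.symm E
    (fun z => by simp [E, coeff_texp, γ.dpow_zero hx])
    (fun z => by simp [E, coeff_texp, γ.dpow_one hx, hc z])
    (fun z n hn => by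
      rw [coeff_texp]
      exact Ideal.mul_mem_left _ _ (Ideal.mem_map_of_mem _ (γ.dpow_mem hn hx)))
    (fun z z' => by
      rw [hE _ (c z + c z') (by rw [add_mul, hc, hc]; rfl), texp_add_left γ _ _ hx])
    (fun b z n => by
      rw [hE _ (b * c z) (by rw [mul_assoc, hc]; rfl), coeff_texp, coeff_texp, mul_pow, mul_assoc])
    (fun m n z hz => by
      simp only [hE z 1 (by rw [one_mul]; exact hz.symm), coeff_texp, one_pow, one_mul, ← map_mul,
        γ.mul_dpow hx]
      rw [map_mul, map_natCast])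
    (fun m n z hn hz => by
      obtain ⟨a, ha⟩ := Ideal.mem_span_singleton'.1 (γ.dpow_mem hn hx)
      have e : PowerSeries.coeff n (E z) = algebraMap A B a * algebraMap A B x := by
        rw [hE z 1 (by rw [one_mul]; exact hz.symm), coeff_texp, one_pow, one_mul, ← map_mul, ha]
      rw [hE ⟨_, _⟩ (algebraMap A B a) e.symm, coeff_texp, hE z 1 (by rw [one_mul]; exact hz.symm),
        coeff_texp, one_pow, one_mul, ← map_pow, ← map_mul, ← γ.dpow_mul hx, ha, γ.dpow_comp hn hx,
        map_mul, map_natCast])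
  refine ⟨δ, (DividedPowers.isDPMorphism_def _ _ _).2 ⟨le_rfl, fun {n} a ha => ?_⟩⟩
  obtain ⟨r, rfl⟩ := Ideal.mem_span_singleton'.1 ha
  rw [hδ n ⟨_, Ideal.mem_map_of_mem _ ha⟩, hE _ (algebraMap A B r) (by rw [← map_mul]), coeff_texp,
    γ.dpow_mul hx, map_mul, map_pow]

end Groth.Agent.DPow28
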