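import Groth.Agent.DPow28.Gen
import Mathlib.Data.Nat.Prime.Factorial
import Mathlib.NumberTheory.Padics.PadicVal.Basic

/-! Divided powers are determined by the `p`-th one when all integers prime to `p` are invertible. -/

set_option autoImplicit false

universe u

namespace Groth.Agent.DPow28

open Finset

/-- The coefficient relating the `n`-th divided power to the iterated `p`-th one. -/
def wgt (p n : ℕ) : ℕ := (n % p).factorial * Nat.uniformBell (n / p) p * n.choose (n % p)

theorem wgt_mul (p n : ℕ) (hp : p ≠ 0) :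
    wgt p n * (p.factorial ^ (n / p) * (n / p).factorial) = n.factorial := by
  have h1 := Nat.uniformBell_mul_eq (n / p) hp
  have h2 := Nat.choose_mul_factorial_mul_factorial (Nat.mod_le n p)
  have h3 : n - n % p = n / p * p := by
    have := Nat.div_add_mod n p
    rw [mul_comm]; omega
  rw [h3, ← h1] at h2
  rw [wgt, ← h2]
  ring

theorem not_dvd_wgt {p : ℕ} (hp : p.Prime) (n : ℕ) : ¬ p ∣ wgt p n := by
  haveI : Fact p.Prime := ⟨hp⟩
  have h := congrArg (padicValNat p) (wgt_mul p n hp.ne_zero)
  have hw : wgt p n ≠ 0 := fun h0 => n.factorial_ne_zero (by rw [← wgt_mul p n hp.ne_zero, h0, zero_mul])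
  rw [padicValNat.mul hw (mul_ne_zero (pow_ne_zero _ p.factorial_ne_zero) (n / p).factorial_ne_zero),
    padicValNat.mul (pow_ne_zero _ p.factorial_ne_zero) (n / p).factorial_ne_zero,
    padicValNat.pow (p := p) (n / p) (a := p.factorial),
    ← padicValNat_mul_div_factorial (p := p) n, padicValNat_factorial_mul] at h
  have hp1 : padicValNat p p.factorial = 1 := by
    have := padicValNat_factorial_mul (p := p) 1
    rwa [mul_one, Nat.factorial_one, padicValNat.one, zero_add] at this
  rw [hp1, mul_one] at h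
  intro hd
  have := one_le_padicValNat_of_dvd hw hd
  omega

theorem wgt_of_lt {p n : ℕ} (h : n < p) : wgt p n = n.factorial := by
  simp [wgt, Nat.mod_eq_of_lt h, Nat.div_eq_of_lt h, Nat.uniformBell_zero_left]

theorem wgt_mul_self {p : ℕ} (hp : 0 < p) (q : ℕ) : wgt p (q * p) = Nat.uniformBell q p := by
  simp [wgt, Nat.mul_div_cancel q hp]

variable {A : Type u} [CommRing A] {I : Ideal A}

theorem dpow_step (γ : DividedPowers I) {p : ℕ} (hp : p ≠ 0) (n : ℕ) {x : A} (hx : x ∈ I) :
    (wgt p n : A) * γ.dpow n x = x ^ (n % p) * γ.dpow (n / p) (γ.dpow p x) := by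
  rw [γ.dpow_comp hp hx, ← γ.factorial_mul_dpow_eq_pow hx,
    show ((n % p).factorial : A) * γ.dpow (n % p) x * (↑((n / p).uniformBell p) * γ.dpow (n / p * p) x) =
      ((n % p).factorial : A) * ↑((n / p).uniformBell p) * (γ.dpow (n % p) x * γ.dpow (n / p * p) x) by ring,
    γ.mul_dpow hx, show n % p + n / p * p = n by rw [mul_comm]; exact Nat.mod_add_div n p, wgt]
  push_cast
  ring

variable {p : ℕ} (hp : p.Prime) (hA : ∀ n : ℕ, ¬ p ∣ n → IsUnit (n : A))

include hp hA in
theorem wgt_isUnit (n : ℕ) : IsUnit (wgt p n : A) := hA _ (not_dvd_wgt hp n)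

include hp hA in
theorem eq_of_dpow_prime_eq (γ γ' : DividedPowers I) (h : ∀ x ∈ I, γ.dpow p x = γ'.dpow p x) :
    γ = γ' := by
  have key : ∀ n x, x ∈ I → γ.dpow n x = γ'.dpow n x := by
    intro n
    induction n using Nat.strong_induction_on with
    | h n ih =>
      intro x hx
      rcases Nat.eq_zero_or_pos n with rfl | hn
      · rw [γ.dpow_zero hx, γ'.dpow_zero hx]
      refine (wgt_isUnit hp hA n).mul_left_cancel ?_
      rw [dpow_step γ hp.ne_zero n hx, dpow_step γ' hp.ne_zero n hx, h x hx,
        ih _ (Nat.div_lt_self hn hp.one_lt) _ (γ'.dpow_mem hp.ne_zero hx)]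
  exact DividedPowers.ext γ γ' fun n {x} hx => key n x hx

variable (d : A → A)

/-- The divided powers built from the `p`-th one. -/
noncomputable def gdp (p : ℕ) (d : A → A) : ℕ → A → A
  | 0, _ => 1
  | n + 1, x =>
    if h : 1 < p then Ring.inverse (wgt p (n + 1) : A) * x ^ ((n + 1) % p) * gdp p d ((n + 1) / p) (d x)
    else 0
  termination_by n => n
  decreasing_by exact Nat.div_lt_self (Nat.succ_pos n) h

include hp hA in
theorem gdp_step (n : ℕ) (x : A) :
    (wgt p n : A) * gdp p d n x = x ^ (n % p) * gdp p d (n / p) (d x) := by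
  cases n with
  | zero => simp [gdp, wgt, Nat.uniformBell_zero_left]
  | succ n =>
    rw [gdp, dif_pos hp.one_lt, ← mul_assoc, ← mul_assoc,
      Ring.mul_inverse_cancel _ (wgt_isUnit hp hA (n + 1)), one_mul]

variable (hdI : ∀ x ∈ I, d x ∈ I) (h1 : ∀ x ∈ I, (p.factorial : A) * d x = x ^ p)
  (h2 : ∀ (a x : A), x ∈ I → d (a * x) = a ^ p * d x)
  (h3 : ∀ x ∈ I, ∀ y ∈ I, d (x + y) = d x + d y +
      ((Finset.antidiagonal p).filter fun k => 0 < k.1 ∧ 0 < k.2).sum
        fun k => Ring.inverse ((k.1.factorial * k.2.factorial : ℕ) : A) * x ^ k.1 * y ^ k.2)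

include hp hA in
theorem gdp_lt {n : ℕ} (hn : n < p) (x : A) : (n.factorial : A) * gdp p d n x = x ^ n := by
  rw [← wgt_of_lt hn, gdp_step hp hA, Nat.mod_eq_of_lt hn, Nat.div_eq_of_lt hn]
  simp [gdp]

include hp hA in
theorem gdp_one (x : A) : gdp p d 1 x = x := by simpa using gdp_lt hp hA d hp.one_lt x

include hp hA in
theorem gdp_prime (x : A) : gdp p d p x = d x := by
  have h := gdp_step hp hA d p x
  rw [show wgt p p = 1 by simpa [Nat.uniformBell_one_left] using wgt_mul_self hp.pos 1] at h
  simpa [Nat.div_self hp.pos, gdp_one hp hA] using h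

include hp hA hdI in
theorem gdp_mem {n : ℕ} (hn : n ≠ 0) {x : A} (hx : x ∈ I) : gdp p d n x ∈ I := by
  induction n using Nat.strong_induction_on generalizing x with
  | h n ih =>
    rw [← Ideal.unit_mul_mem_iff_mem I (wgt_isUnit hp hA n), gdp_step hp hA]
    rcases Nat.eq_zero_or_pos (n % p) with h | h
    · refine I.mul_mem_left _ (ih _ (Nat.div_lt_self (Nat.pos_of_ne_zero hn) hp.one_lt) ?_ (hdI x hx))
      intro h0
      exact hn (by have := Nat.div_add_mod n p; simp [h, h0] at this; omega)
    · exact I.mul_mem_right _ (I.pow_mem_of_mem hx _ h)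

include hp hA hdI h2 in
theorem gdp_mul (n : ℕ) (a : A) {x : A} (hx : x ∈ I) : gdp p d n (a * x) = a ^ n * gdp p d n x := by
  induction n using Nat.strong_induction_on generalizing a x with
  | h n ih =>
    rcases Nat.eq_zero_or_pos n with rfl | hn
    · simp [gdp]
    refine (wgt_isUnit hp hA n).mul_left_cancel ?_
    rw [gdp_step hp hA, h2 a x hx, ih _ (Nat.div_lt_self hn hp.one_lt) _ (hdI x hx),
      mul_left_comm (wgt p n : A), gdp_step hp hA,
      show a ^ n = a ^ (n % p) * (a ^ p) ^ (n / p) by rw [← pow_mul, ← pow_add, Nat.mod_add_div]]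
    ring

include hp hA hdI h1 in
theorem gdp_mul_gdp (m n : ℕ) {x : A} (hx : x ∈ I) :
    gdp p d m x * gdp p d n x = ((m + n).choose m : A) * gdp p d (m + n) x := by
  suffices H : ∀ N m n, m + n = N → ∀ x ∈ I,
      gdp p d m x * gdp p d n x = (N.choose m : A) * gdp p d N x from H _ m n rfl x hx
  intro N
  induction N using Nat.strong_induction_on with
  | h N ih =>
    intro m n hN x hx
    subst hN
    rcases Nat.eq_zero_or_pos (m + n) with h0 | h0
    · obtain ⟨rfl, rfl⟩ : m = 0 ∧ n = 0 := by omega
      simp [gdp]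
    refine ((wgt_isUnit hp hA m).mul (wgt_isUnit hp hA n)).mul_left_cancel ?_
    rw [mul_mul_mul_comm, gdp_step hp hA, gdp_step hp hA, mul_mul_mul_comm, ← pow_add]
    have em := Nat.div_add_mod m p
    have en := Nat.div_add_mod n p
    have hm' := Nat.mod_lt m hp.pos
    have hn' := Nat.mod_lt n hp.pos
    have h2p := hp.two_le
    set q := m / p
    set q' := n / p
    have hq2 : 2 * q ≤ p * q := Nat.mul_le_mul_right q h2p
    have hq2' : 2 * q' ≤ p * q' := Nat.mul_le_mul_right q' h2p
    have hQ : q + q' < m + n := by omega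
    rw [ih (q + q') hQ q q' rfl (d x) (hdI x hx)]
    have hfac : 0 < p.factorial ^ (q + q') * (q.factorial * q'.factorial) := by positivity
    have hlhs : wgt p m * wgt p n * (m + n).choose m * (p.factorial ^ (q + q') * (q.factorial * q'.factorial)) =
        (m + n).factorial := by
      rw [← Nat.add_choose_mul_factorial_mul_factorial m n, ← wgt_mul p m hp.ne_zero, ← wgt_mul p n hp.ne_zero,
        Nat.choose_symm_add]
      ring
    by_cases hc : m % p + n % p < p
    · have hmod : (m + n) % p = m % p + n % p := Nat.add_mod_of_add_mod_lt hc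
      have hdiv : (m + n) / p = q + q' := Nat.add_div_eq_of_add_mod_lt hc
      have hid : wgt p m * wgt p n * (m + n).choose m = wgt p (m + n) * (q + q').choose q := by
        refine Nat.eq_of_mul_eq_mul_right hfac ?_
        rw [hlhs, ← wgt_mul p (m + n) hp.ne_zero, hdiv, ← Nat.add_choose_mul_factorial_mul_factorial q q',
          Nat.choose_symm_add]
        ring
      have hs := gdp_step hp hA d (m + n) x
      rw [hmod, hdiv] at hs
      calc _ = ((q + q').choose q : A) * (x ^ (m % p + n % p) * gdp p d (q + q') (d x)) := by ring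
        _ = ((wgt p (m + n) * (q + q').choose q : ℕ) : A) * gdp p d (m + n) x := by
          rw [← hs]; push_cast; ring
        _ = _ := by rw [← hid]; push_cast; ring
    · push Not at hc
      have hdiv : (m + n) / p = q + q' + 1 := Nat.add_div_eq_of_le_mod_add_mod hc hp.pos
      have hmod : (m + n) % p = m % p + n % p - p := by
        have := Nat.div_add_mod (m + n) p
        rw [hdiv, mul_add, mul_add, mul_one] at this
        omega
      have hQ1 : q + q' + 1 < m + n := by omega
      have hid : wgt p m * wgt p n * (m + n).choose m =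
          wgt p (m + n) * (q + q').choose q * p.factorial * (q + q' + 1) := by
        refine Nat.eq_of_mul_eq_mul_right hfac ?_
        rw [hlhs, ← wgt_mul p (m + n) hp.ne_zero, hdiv, Nat.factorial_succ,
          ← Nat.add_choose_mul_factorial_mul_factorial q q', Nat.choose_symm_add]
        ring
      have hone : d x * gdp p d (q + q') (d x) = ((q + q' + 1 : ℕ) : A) * gdp p d (q + q' + 1) (d x) := by
        have := ih (1 + (q + q')) (by omega) 1 (q + q') rfl (d x) (hdI x hx)
        rw [gdp_one hp hA, Nat.choose_one_right, add_comm 1] at this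
        exact this
      have hs := gdp_step hp hA d (m + n) x
      rw [hmod, hdiv] at hs
      calc _ = ((q + q').choose q : A) * (x ^ (m % p + n % p) * gdp p d (q + q') (d x)) := by ring
        _ = ((q + q').choose q : A) * (x ^ (m % p + n % p - p) * (p.factorial : A) *
              (d x * gdp p d (q + q') (d x))) := by
          rw [show x ^ (m % p + n % p) = x ^ (m % p + n % p - p) * x ^ p by
            rw [← pow_add, Nat.sub_add_cancel hc], ← h1 x hx]
          ring
        _ = ((wgt p (m + n) * (q + q').choose q * p.factorial * (q + q' + 1) : ℕ) : A) *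
              gdp p d (m + n) x := by
          rw [hone, show ((q + q').choose q : A) * (x ^ (m % p + n % p - p) * (p.factorial : A) *
            (((q + q' + 1 : ℕ) : A) * gdp p d (q + q' + 1) (d x))) =
            ((q + q').choose q : A) * (p.factorial : A) * ((q + q' + 1 : ℕ) : A) *
              (x ^ (m % p + n % p - p) * gdp p d (q + q' + 1) (d x)) by ring, ← hs]
          push_cast; ring
        _ = _ := by rw [← hid]; push_cast; ring

include hp hA hdI h1 h2 in
theorem gdp_comp_small {i : ℕ} (hi0 : i ≠ 0) (hi : i < p) (k : ℕ) {x : A} (hx : x ∈ I) :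
    gdp p d k (gdp p d i x) = (Nat.uniformBell k i : A) * gdp p d (k * i) x := by
  have hu : IsUnit (i.factorial : A) := hA _ fun h => absurd ((Nat.Prime.dvd_factorial hp).1 h) (by omega)
  refine (hu.pow k).mul_left_cancel ?_
  rw [← gdp_mul hp hA d hdI h2 k _ (gdp_mem hp hA d hdI hi0 hx), gdp_lt hp hA d hi]
  obtain ⟨j, rfl⟩ : ∃ j, i = j + 1 := ⟨i - 1, by omega⟩
  rw [pow_succ, gdp_mul hp hA d hdI h2 k _ hx, ← pow_mul]
  have hpow : ∀ s, x ^ s = (s.factorial : A) * gdp p d s x := by
    intro s
    induction s with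
    | zero => simp [gdp]
    | succ s ih =>
      have := gdp_mul_gdp hp hA d hdI h1 s 1 hx
      rw [gdp_one hp hA, Nat.choose_succ_self_right] at this
      rw [pow_succ, ih, mul_assoc, this, Nat.factorial_succ]
      push_cast
      ring
  rw [hpow, mul_assoc, gdp_mul_gdp hp hA d hdI h1 _ _ hx, show j * k + k = k * (j + 1) by ring]
  have hid : (j * k).factorial * (k * (j + 1)).choose (j * k) =
      (j + 1).factorial ^ k * Nat.uniformBell k (j + 1) := by
    refine Nat.eq_of_mul_eq_mul_right k.factorial_pos ?_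
    have h := Nat.choose_mul_factorial_mul_factorial (show j * k ≤ k * (j + 1) by rw [mul_add]; simp [mul_comm])
    rw [show k * (j + 1) - j * k = k by rw [mul_add, mul_one, mul_comm]; omega] at h
    rw [mul_comm ((j + 1).factorial ^ k), Nat.uniformBell_mul_eq k (Nat.succ_ne_zero j), ← h]
    ring
  rw [← mul_assoc, ← Nat.cast_mul, hid]
  push_cast
  ring

include hp hA hdI h1 h2 h3 in
theorem exists_dividedPowers_of_prime :
    ∃ γ : DividedPowers I, ∀ x ∈ I, γ.dpow p x = d x := by
  classical
  obtain ⟨T, _, _, _, xT, bT, hT0, hTmul, hbT⟩ := DPow29.exists_model (Fin 2) A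
  obtain ⟨γT, hγT⟩ := DPow29.exists_dividedPowers_of_isAddTorsionFree xT hT0 hTmul
  let σ : MvPolynomial A ℤ →+* A := MvPolynomial.eval₂Hom (Int.castRingHom A) id
  letI : Algebra (MvPolynomial A ℤ) A := σ.toAlgebra
  let J : Ideal T := Ideal.span {y : T | ∃ (l : Fin 2) (n : ℕ), 1 ≤ n ∧ y = xT l n}
  have hX : ∀ l n, n ≠ 0 → xT l n ∈ J := fun l n hn => DPow29.mem_gens xT l (Nat.pos_of_ne_zero hn)
  have hev : ∀ v : Fin 2 → A, (∀ l, v l ∈ I) →
      ∃ φ : T →ₐ[MvPolynomial A ℤ] A, ∀ l n, φ (xT l n) = gdp p d n (v l) := fun v hv =>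
    DPow29.exists_algHom xT hT0 hTmul bT hbT _ (fun l => by simp [gdp]) fun l n m =>
      gdp_mul_gdp hp hA d hdI h1 n m (hv l)
  -- additivity
  have hadd : ∀ n x y, x ∈ I → y ∈ I →
      gdp p d n (x + y) = ∑ k ∈ antidiagonal n, gdp p d k.1 x * gdp p d k.2 y := by
    intro n
    induction n using Nat.strong_induction_on with
    | h n ih =>
      intro x y hx hy
      rcases Nat.eq_zero_or_pos n with rfl | hn
      · simp [gdp]
      obtain ⟨φ, hφ⟩ := hev ![x, y] (Fin.forall_fin_two.2 ⟨hx, hy⟩)
      set q := n / p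
      have hq : q < n := Nat.div_lt_self hn hp.one_lt
      let Good : T → Prop := fun z => z ∈ J ∧ φ z ∈ I ∧
        ∀ k, k < n → φ (γT.dpow k z) = gdp p d k (φ z)
      have good_zero : Good 0 := ⟨J.zero_mem, by simp, fun k hk => by
        rw [map_zero]
        rcases Nat.eq_zero_or_pos k with rfl | hk0
        · rw [γT.dpow_zero J.zero_mem, map_one, gdp]
        · rw [γT.dpow_eval_zero hk0.ne', map_zero]
          have := gdp_mul hp hA d hdI h2 k 0 I.zero_mem
          rw [zero_mul, zero_pow hk0.ne', zero_mul] at this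
          exact this.symm⟩
      have good_add : ∀ a b, Good a → Good b → Good (a + b) := fun a b ha hb =>
        ⟨add_mem ha.1 hb.1, by rw [map_add]; exact add_mem ha.2.1 hb.2.1, fun k hk => by
          rw [γT.dpow_add ha.1 hb.1, map_sum, map_add, ih k hk _ _ ha.2.1 hb.2.1]
          refine Finset.sum_congr rfl fun i hi => ?_
          rw [Finset.mem_antidiagonal] at hi
          rw [map_mul, ha.2.2 _ (by omega), hb.2.2 _ (by omega)]⟩
      have good_smul : ∀ r a, Good a → Good (r * a) := fun r a ha =>
        ⟨J.mul_mem_left _ ha.1, by rw [map_mul]; exact I.mul_mem_left _ ha.2.1, fun k hk => by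
          rw [γT.dpow_mul ha.1, map_mul, map_mul, map_pow, ha.2.2 k hk,
            gdp_mul hp hA d hdI h2 k _ ha.2.1]⟩
      have good_gen : ∀ l i, i ≠ 0 → i ≤ p → Good (xT l i) := by
        intro l i hi0 hip
        have hv : (![x, y] : Fin 2 → A) l ∈ I := by fin_cases l <;> assumption
        refine ⟨hX l i hi0, by rw [hφ]; exact gdp_mem hp hA d hdI hi0 hv, fun k hk => ?_⟩
        rw [← hγT l i, γT.dpow_comp hi0 (hX l 1 one_ne_zero), hγT, hγT, map_mul, map_natCast, hφ, hφ]
        rcases hip.lt_or_eq with hlt | rfl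
        · exact (gdp_comp_small hp hA d hdI h1 h2 hi0 hlt k hv).symm
        · rw [gdp_prime hp hA, ← wgt_mul_self hp.pos, gdp_step hp hA, Nat.mul_mod_left,
            Nat.mul_div_cancel _ hp.pos, pow_zero, one_mul]
      set z := γT.dpow p (xT 0 1 + xT 1 1) with hz
      have hz' : z = ∑ k ∈ antidiagonal p, xT 0 k.1 * xT 1 k.2 := by
        rw [hz, γT.dpow_add (hX 0 1 one_ne_zero) (hX 1 1 one_ne_zero)]
        exact Finset.sum_congr rfl fun k _ => by rw [hγT, hγT]
      have hzG : Good z := by
        rw [hz']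
        refine Finset.sum_induction _ Good (fun a b => good_add a b) good_zero fun k hk => ?_
        rw [Finset.mem_antidiagonal] at hk
        rcases Nat.eq_zero_or_pos k.1 with h | h
        · exact good_smul _ _ (good_gen 1 k.2 (by have := hp.pos; omega) (by omega))
        · rw [mul_comm]; exact good_smul _ _ (good_gen 0 k.1 h.ne' (by omega))
      have hφz : φ z = d (x + y) := by
        rw [hz', map_sum, h3 x hx y hy,
          ← Finset.sum_filter_add_sum_filter_not (antidiagonal p) (fun k => 0 < k.1 ∧ 0 < k.2), add_comm]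
        congr 1
        · have : ((antidiagonal p).filter fun k => ¬(0 < k.1 ∧ 0 < k.2)) = {(0, p), (p, 0)} := by
            ext ⟨a, b⟩
            simp only [mem_filter, Finset.mem_antidiagonal, mem_insert, mem_singleton, Prod.mk.injEq]
            omega
          rw [this, Finset.sum_pair (by simp [hp.ne_zero, eq_comm]), map_mul, map_mul, hφ, hφ, hφ, hφ]
          simp [gdp, gdp_prime hp hA, add_comm]
        · refine Finset.sum_congr rfl fun k hk => ?_
          simp only [mem_filter, Finset.mem_antidiagonal] at hk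
          have hu : IsUnit ((k.1.factorial * k.2.factorial : ℕ) : A) := hA _ fun h => by
            rcases hp.dvd_mul.1 h with h | h <;>
              exact absurd ((Nat.Prime.dvd_factorial hp).1 h) (by omega)
          refine hu.mul_left_cancel ?_
          rw [← mul_assoc, ← mul_assoc, Ring.mul_inverse_cancel _ hu, one_mul, map_mul, hφ, hφ,
            Nat.cast_mul, mul_mul_mul_comm, gdp_lt hp hA d (by omega), gdp_lt hp hA d (by omega)]
          rfl
      have hφs : φ (xT 0 1 + xT 1 1) = x + y := by
        rw [map_add, hφ, hφ, gdp_one hp hA, gdp_one hp hA]; rfl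
      have hsum : (wgt p n : A) * φ (γT.dpow n (xT 0 1 + xT 1 1)) =
          (x + y) ^ (n % p) * gdp p d q (d (x + y)) := by
        rw [← map_natCast φ, ← map_mul,
          dpow_step γT hp.ne_zero n (add_mem (hX 0 1 one_ne_zero) (hX 1 1 one_ne_zero)),
          map_mul, map_pow, hφs, hzG.2.2 q hq, hφz]
      refine (wgt_isUnit hp hA n).mul_left_cancel ?_
      rw [gdp_step hp hA, ← hsum, γT.dpow_add (hX 0 1 one_ne_zero) (hX 1 1 one_ne_zero), map_sum]
      congr 1
      exact Finset.sum_congr rfl fun k _ => by rw [hγT, hγT, map_mul, hφ, hφ]; rfl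
  -- p-th power of a divided power
  have hstar : ∀ n, n ≠ 0 → ∀ x ∈ I,
      d (gdp p d n x) = (Nat.uniformBell p n : A) * gdp p d (p * n) x := by
    intro n
    induction n using Nat.strong_induction_on with
    | h n ih =>
      intro hn x hx
      obtain ⟨φ, hφ⟩ := hev (fun _ => x) fun _ => hx
      have hX1 : xT 0 1 ∈ J := hX 0 1 one_ne_zero
      have e := gdp_step hp hA d n x
      have eT : (wgt p n : T) * xT 0 n = xT 0 1 ^ (n % p) * γT.dpow (n / p) (γT.dpow p (xT 0 1)) := by
        rw [← hγT 0 n]; exact dpow_step γT hp.ne_zero n hX1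
      have hin : φ (γT.dpow (n / p) (xT 0 p)) = gdp p d (n / p) (d x) := by
        rw [← hγT 0 p, γT.dpow_comp hp.ne_zero hX1, map_mul, map_natCast, hγT, hφ, ← wgt_mul_self hp.pos,
          gdp_step hp hA, Nat.mul_mod_left, Nat.mul_div_cancel _ hp.pos, pow_zero, one_mul]
      refine ((wgt_isUnit hp hA n).pow p).mul_left_cancel ?_
      rw [← h2 _ _ (gdp_mem hp hA d hdI hn hx), e,
        show ((Nat.uniformBell p n : A) * gdp p d (p * n) x) = φ (γT.dpow p (xT 0 n)) by
          rw [← hγT 0 n, γT.dpow_comp hn hX1, hγT, map_mul, map_natCast, hφ],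
        ← map_natCast φ (wgt p n), ← map_pow, ← map_mul, ← γT.dpow_mul (hX 0 n hn), eT]
      rcases Nat.eq_zero_or_pos (n % p) with hr | hr
      · have hq0 : n / p ≠ 0 := fun h0 => hn (by have := Nat.div_add_mod n p; simp [hr, h0] at this; omega)
        rw [hr, pow_zero, pow_zero, one_mul, one_mul,
          ih _ (Nat.div_lt_self (Nat.pos_of_ne_zero hn) hp.one_lt) hq0 _ (hdI x hx),
          γT.dpow_comp (n := n / p) hq0 (γT.dpow_mem hp.ne_zero hX1), γT.dpow_comp hp.ne_zero hX1,
          hγT, map_mul, map_mul, map_natCast, map_natCast, hφ]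
        congr 1
        rw [← wgt_mul_self hp.pos, gdp_step hp hA, Nat.mul_mod_left, Nat.mul_div_cancel _ hp.pos,
          pow_zero, one_mul]
      · obtain ⟨r, hr'⟩ : ∃ r, n % p = r + 1 := ⟨n % p - 1, by omega⟩
        rw [hr', pow_succ, pow_succ, mul_right_comm, h2 _ _ hx, mul_right_comm (xT 0 1 ^ r),
          γT.dpow_mul hX1, hγT, map_mul, map_pow, map_mul, map_pow, hin, hφ, hφ, gdp_one hp hA,
          gdp_prime hp hA]
  -- composition
  have hcomp : ∀ m n, n ≠ 0 → ∀ x ∈ I,
      gdp p d m (gdp p d n x) = (Nat.uniformBell m n : A) * gdp p d (m * n) x := by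
    intro m
    induction m using Nat.strong_induction_on with
    | h m ih =>
      intro n hn x hx
      rcases Nat.eq_zero_or_pos m with rfl | hm
      · simp [gdp, Nat.uniformBell_zero_left]
      obtain ⟨φ, hφ⟩ := hev (fun _ => x) fun _ => hx
      have hX1 : xT 0 1 ∈ J := hX 0 1 one_ne_zero
      refine (wgt_isUnit hp hA m).mul_left_cancel ?_
      rw [gdp_step hp hA, hstar n hn x hx,
        gdp_mul hp hA d hdI h2 _ _ (gdp_mem hp hA d hdI (mul_ne_zero hp.ne_zero hn) hx),
        ih _ (Nat.div_lt_self hm hp.one_lt) (p * n) (mul_ne_zero hp.ne_zero hn) x hx,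
        show ((Nat.uniformBell m n : A) * gdp p d (m * n) x) = φ (γT.dpow m (xT 0 n)) by
          rw [← hγT 0 n, γT.dpow_comp hn hX1, hγT, map_mul, map_natCast, hφ],
        ← map_natCast φ (wgt p m), ← map_mul, dpow_step γT hp.ne_zero m (hX 0 n hn)]
      conv_rhs => arg 2; rw [← hγT 0 n, γT.dpow_comp hn hX1, hγT 0 n, hγT 0 (p * n),
        γT.dpow_mul (hX 0 _ (mul_ne_zero hp.ne_zero hn)), ← hγT 0 (p * n),
        γT.dpow_comp (mul_ne_zero hp.ne_zero hn) hX1, hγT]
      simp only [map_mul, map_pow, map_natCast, hφ]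
  obtain ⟨γ, hγ⟩ := exists_of_exp I (I : Set A) (Ideal.span_eq I)
    (fun x => PowerSeries.mk fun n => gdp p d n x.1)
    (fun x => by rw [PowerSeries.coeff_mk, gdp])
    (fun x => by rw [PowerSeries.coeff_mk, gdp_one hp hA])
    (fun x n hn => by rw [PowerSeries.coeff_mk]; exact gdp_mem hp hA d hdI hn x.2)
    (fun x y => PowerSeries.ext fun n => by
      rw [PowerSeries.coeff_mul]; simp only [PowerSeries.coeff_mk]; exact hadd n _ _ x.2 y.2)
    (fun a x n => by simp only [PowerSeries.coeff_mk]; exact gdp_mul hp hA d hdI h2 n a x.2)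
    (fun m n x _ => by simp only [PowerSeries.coeff_mk]; exact gdp_mul_gdp hp hA d hdI h1 m n x.2)
    (fun m n x hn _ => by simp only [PowerSeries.coeff_mk]; exact hcomp m n hn _ x.2)
  exact ⟨γ, fun x hx => by rw [hγ p ⟨x, hx⟩, PowerSeries.coeff_mk, gdp_prime hp hA]⟩

end Groth.Agent.DPow28
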